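import Groth.Agent.Lib.BddFibre.Count
import Mathlib.LinearAlgebra.TensorProduct.Quotient
import Mathlib.RingTheory.Artinian.Module

/-!
Degrees of fibres of compositions, and descent along flat surjections.
-/

universe u

open CategoryTheory CategoryTheory.Limits AlgebraicGeometry TensorProduct

namespace GrothLib.BddFibre

open BddFib

noncomputable section

/-- A module over an artinian ring is spanned by as many elements as each of its reductions. -/
theorem exists_span_eq_top_of_artinian (B : Type u) [CommRing B] [IsArtinianRing B] (A : Type u)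
    [AddCommGroup A] [Module B A] (n : ℕ)
    (h : ∀ m : MaximalSpectrum B, ∃ v : Fin n → A,
      Submodule.span B (Set.range v) ⊔ m.asIdeal • (⊤ : Submodule B A) = ⊤) :
    ∃ a : Fin n → A, Submodule.span B (Set.range a) = ⊤ := by
  choose v hv using h
  let := Fintype.ofFinite (MaximalSpectrum B)
  have hco : Pairwise (Function.onFun IsCoprime fun m : MaximalSpectrum B => m.asIdeal) :=
    fun m m' hm => Ideal.isCoprime_iff_sup_eq.mpr
      (m.isMaximal.coprime_of_ne m'.isMaximal fun e => hm (MaximalSpectrum.ext e))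
  have hsel : ∀ m : MaximalSpectrum B, ∃ c : B, ∀ m' : MaximalSpectrum B,
      (m' = m → c - 1 ∈ m'.asIdeal) ∧ (m' ≠ m → c ∈ m'.asIdeal) := by
    classical
    intro m
    obtain ⟨c, hc⟩ := Ideal.quotientInfToPiQuotient_surj hco
      (fun m' => Ideal.Quotient.mk _ (if m' = m then 1 else 0))
    obtain ⟨c, rfl⟩ := Ideal.Quotient.mk_surjective c
    refine ⟨c, fun m' => ?_⟩
    have h1 := congrFun hc m'
    rw [Ideal.quotientInfToPiQuotient_mk', Ideal.Quotient.eq] at h1
    exact ⟨fun e => by rwa [if_pos e] at h1, fun e => by rwa [if_neg e, sub_zero] at h1⟩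
  choose c hc using hsel
  let a : Fin n → A := fun i => ∑ m, c m • v m i
  refine ⟨a, ?_⟩
  let N := Submodule.span B (Set.range a)
  have hmod : ∀ m : MaximalSpectrum B, N ⊔ m.asIdeal • (⊤ : Submodule B A) = ⊤ := by
    intro m
    refine top_unique ((hv m).symm.le.trans (sup_le (Submodule.span_le.mpr ?_) le_sup_right))
    rintro _ ⟨i, rfl⟩
    have h1 : a i - v m i ∈ m.asIdeal • (⊤ : Submodule B A) := by
      classical
      have h2 : a i - v m i = (c m - 1) • v m i + ∑ m' ∈ Finset.univ.erase m, c m' • v m' i := by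
        simp only [a, sub_smul, one_smul]
        rw [← Finset.add_sum_erase _ _ (Finset.mem_univ m)]
        abel
      rw [h2]
      refine add_mem (Submodule.smul_mem_smul ((hc m m).1 rfl) trivial) (sum_mem fun m' hm' => ?_)
      exact Submodule.smul_mem_smul ((hc m' m).2 (Finset.ne_of_mem_erase hm').symm) trivial
    rw [SetLike.mem_coe, ← sub_sub_cancel (a i) (v m i)]
    exact sub_mem (Submodule.mem_sup_left (Submodule.subset_span ⟨i, rfl⟩)) (Submodule.mem_sup_right h1)
  have hmul : ∀ I J : Ideal B, N ⊔ I • (⊤ : Submodule B A) = ⊤ → N ⊔ J • (⊤ : Submodule B A) = ⊤ →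
      N ⊔ (I * J) • (⊤ : Submodule B A) = ⊤ := by
    intro I J hI hJ
    refine top_unique (hI.symm.le.trans (sup_le le_sup_left ?_))
    calc I • (⊤ : Submodule B A) = I • (N ⊔ J • (⊤ : Submodule B A)) := congrArg _ hJ.symm
      _ = I • N ⊔ (I * J) • (⊤ : Submodule B A) := by rw [Submodule.smul_sup, Submodule.mul_smul]
      _ ≤ _ := sup_le (le_sup_of_le_left Submodule.smul_le_right) le_sup_right
  have hprod : ∀ s : Finset (MaximalSpectrum B),
      N ⊔ (∏ m ∈ s, m.asIdeal) • (⊤ : Submodule B A) = ⊤ := by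
    classical
    intro s
    induction s using Finset.induction with
    | empty => simp
    | insert m s hm ih => rw [Finset.prod_insert hm]; exact hmul _ _ (hmod m) ih
  obtain ⟨k, hk⟩ := IsArtinianRing.isNilpotent_jacobson_bot (R := B)
  have hle : ∏ m : MaximalSpectrum B, m.asIdeal ≤ Ideal.jacobson ⊥ := by
    rw [Ideal.jacobson]
    refine le_sInf fun I hI => ?_
    exact le_trans (Ideal.prod_le_inf.trans (Finset.inf_le (Finset.mem_univ ⟨I, hI.2⟩))) le_rfl
  have hpow : ∀ j : ℕ, N ⊔ (∏ m : MaximalSpectrum B, m.asIdeal) ^ j • (⊤ : Submodule B A) = ⊤ := by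
    intro j
    induction j with
    | zero => simp
    | succ j ih => rw [pow_succ]; exact hmul _ _ ih (hprod Finset.univ)
  have h0 : (∏ m : MaximalSpectrum B, m.asIdeal) ^ k = ⊥ :=
    le_bot_iff.mp ((Ideal.pow_right_mono hle k).trans hk.le)
  simpa [h0] using hpow k

set_option backward.isDefEq.respectTransparency.types false


/-- A finite space in which every point is closed is discrete. -/
theorem discrete_of_specializes_eq {T : Type*} [TopologicalSpace T] [Finite T]
    (h : ∀ ⦃x y : T⦄, x ⤳ y → x = y) : DiscreteTopology T :=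
  have : T1Space T := t1Space_iff_specializes_imp_eq.mpr h
  inferInstance

theorem finiteOfDegLE_of_flat_surjective {K : CommRingCat.{u}} (hK : IsField K) {P Q : Scheme.{u}}
    (r : P ⟶ Q) [Flat r] [Surjective r] (p : Q ⟶ Spec K) {n : ℕ} (h : FiniteOfDegLE K (r ≫ p) n) :
    FiniteOfDegLE K p n := by
  let := hK.toField
  obtain ⟨_, _⟩ := finite_discrete_of_finiteOfDegLE _ hK h
  have : Finite Q := Finite.of_surjective r r.surjective
  have : DiscreteTopology Q := discrete_of_specializes_eq fun y' y hy => by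
    obtain ⟨x, rfl⟩ := r.surjective y
    obtain ⟨x', hx', rfl⟩ := Flat.generalizingMap r hy
    rw [hx'.eq]
  let : Algebra K Γ(P, ⊤) := secAlgebra K (r ≫ p)
  let : Algebra K Γ(Q, ⊤) := secAlgebra K p
  obtain ⟨hP, hf, hn⟩ := h
  have hcomm : ((Scheme.ΓSpecIso K).inv ≫ p.appTop) ≫ r.appTop =
      (Scheme.ΓSpecIso K).inv ≫ (r ≫ p).appTop := by
    rw [Scheme.Hom.comp_appTop, Category.assoc]
  let π : Γ(Q, ⊤) →ₐ[K] Γ(P, ⊤) :=
    { r.appTop.hom with commutes' := fun x => congr($(hcomm).hom x) }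
  have hinj : Function.Injective π.toLinearMap := by
    have h1 := (Flat.flat_and_surjective_iff_faithfullyFlat_of_isAffine r).mp ⟨‹_›, ‹_›⟩
    exact h1.injective
  exact ⟨inferInstance, Module.Finite.of_injective π.toLinearMap hinj,
    (LinearMap.finrank_le_finrank_of_injective hinj).trans hn⟩

/-- A morphism between affine schemes with fibre degrees `≤ n` over an artinian base spans by `n`
elements. -/
theorem exists_span_of_fibreDegLE {B A : CommRingCat.{u}} [IsArtinianRing B] (φ : B ⟶ A) {n : ℕ}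
    (h : FibreDegLE (Spec.map φ) n) :
    letI := φ.hom.toAlgebra
    ∃ a : Fin n → A, Submodule.span B (Set.range a) = ⊤ := by
  let := φ.hom.toAlgebra
  refine exists_span_eq_top_of_artinian B A n fun m => ?_
  let : Field ((B : Type u) ⧸ m.asIdeal) := Ideal.Quotient.field m.asIdeal
  let L : CommRingCat.{u} := CommRingCat.of ((B : Type u) ⧸ m.asIdeal)
  let σ : B ⟶ L := CommRingCat.ofHom (algebraMap B ((B : Type u) ⧸ m.asIdeal))
  have h1 := (fibreDegLE_iff _ n).mp h ((B : Type u) ⧸ m.asIdeal) (Spec.map σ)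
  let Q := ((B : Type u) ⧸ m.asIdeal) ⊗[B] (A : Type u)
  have hpo := (CommRingCat.isPushout_tensorProduct B ((B : Type u) ⧸ m.asIdeal) A).flip
  have hpb := isPullback_SpecMap_of_isPushout _ _ _ _ hpo
  let ψ : L ⟶ CommRingCat.of Q := CommRingCat.ofHom Algebra.TensorProduct.includeLeftRingHom
  have h2 : FiniteOfDegLE L (Spec.map ψ) n :=
    (finiteOfDegLE_of_iso _ hpb.isoPullback hpb.isoPullback_hom_snd).mpr h1
  rw [finiteOfDegLE_iff] at h2
  have hd := h2.2
  rw [deg_eq (Spec.map ψ) ψ (Iso.refl _) (Category.id_comp _)] at hd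
  have hfin := (IsFinite.SpecMap_iff ψ).mp h2.1
  have halg : ψ.hom.toAlgebra = (Algebra.TensorProduct.leftAlgebra : Algebra ((B : Type u) ⧸ m.asIdeal) Q) :=
    Algebra.algebra_ext _ _ fun _ => rfl
  rw [RingHom.Finite, halg] at hfin
  have hd' : Module.finrank ((B : Type u) ⧸ m.asIdeal) Q ≤ n := by
    have h3 := hd
    rw [halg] at h3
    exact h3
  let b := Module.finBasis ((B : Type u) ⧸ m.asIdeal) Q
  let e := TensorProduct.quotTensorEquivQuotSMul (A : Type u) m.asIdeal
  choose w hw using fun i => Submodule.Quotient.mk_surjective _ (e (b i))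
  let v : Fin n → A := fun i => if hi : (i : ℕ) < Module.finrank ((B : Type u) ⧸ m.asIdeal) Q then w ⟨i, hi⟩ else 0
  refine ⟨v, eq_top_iff.mpr fun x _ => ?_⟩
  have hspan : Submodule.span B (Set.range b) = ⊤ := by
    rw [← Submodule.restrictScalars_span B ((B : Type u) ⧸ m.asIdeal) Ideal.Quotient.mk_surjective,
      b.span_eq, Submodule.restrictScalars_top]
  have h5 : Submodule.map (m.asIdeal • (⊤ : Submodule B A)).mkQ (Submodule.span B (Set.range v)) = ⊤ := by
    rw [eq_top_iff, ← Submodule.map_top e.toLinearMap |>.trans (LinearEquiv.range e), ← hspan,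
      Submodule.map_span, Submodule.span_le]
    rintro _ ⟨_, ⟨i, rfl⟩, rfl⟩
    refine ⟨v ⟨i, i.2.trans_le hd'⟩, Submodule.subset_span ⟨_, rfl⟩, ?_⟩
    simp only [v, dif_pos i.2]
    exact hw i
  obtain ⟨y, hy, hyx⟩ := h5.ge (x := (m.asIdeal • (⊤ : Submodule B A)).mkQ x) trivial
  rw [← sub_sub_cancel y x]
  exact sub_mem (Submodule.mem_sup_left hy) (Submodule.mem_sup_right ((Submodule.Quotient.eq _).mp hyx))

theorem fibreDegLE_comp {X Y Z : Scheme.{u}} (f : X ⟶ Y) (g : Y ⟶ Z) {n m : ℕ} (hf : FibreDegLE f n)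
    (hg : FibreDegLE g m) : FibreDegLE (f ≫ g) (n * m) := by
  rw [fibreDegLE_iff] at hg ⊢
  intro k _ a
  let Q := pullback g a
  let p : Q ⟶ Spec (CommRingCat.of k) := pullback.snd g a
  have hQ := hg k a
  obtain ⟨_, _⟩ := finite_discrete_of_finiteOfDegLE p (Field.toIsField k) hQ
  let P := pullback f (pullback.fst g a)
  let r : P ⟶ Q := pullback.snd _ _
  have hr : FibreDegLE r n := fibreDegLE_of_isPullback f _ r _ (IsPullback.of_hasPullback _ _) hf
  let e : pullback (f ≫ g) a ≅ P := (pullbackRightPullbackFstIso g a f).symm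
  have he : e.hom ≫ r ≫ p = pullback.snd (f ≫ g) a := by
    simp only [e, r, p, Iso.symm_hom, Iso.inv_comp_eq, pullbackRightPullbackFstIso_hom_snd]
  rw [finiteOfDegLE_of_iso (r ≫ p) e he]
  have hfib : ∀ q, Finite (r ⁻¹' {q}) ∧ DiscreteTopology (r ⁻¹' {q}) := fun q => by
    obtain ⟨_, _⟩ := finite_discrete_of_finiteOfDegLE _ (Field.toIsField _) (hr q)
    exact ⟨Finite.of_equiv _ (r.fiberHomeo q).toEquiv, (r.fiberHomeo q).discreteTopology⟩
  have : Finite P := by
    have hu : (Set.univ : Set P).Finite :=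
      (Set.finite_iUnion fun q => Set.finite_coe_iff.mp (hfib q).1).subset
        (fun x _ => Set.mem_iUnion.mpr ⟨r x, rfl⟩)
    exact Set.finite_univ_iff.mp hu
  have : DiscreteTopology P := discrete_of_specializes_eq fun x y hxy => by
    have h1 : r x = r y := (hxy.map r.continuous).eq
    have := (hfib (r y)).2
    have h2 : (⟨x, h1⟩ : r ⁻¹' {r y}) ⤳ ⟨y, rfl⟩ := Topology.IsInducing.subtypeVal.specializes_iff.mp hxy
    exact congrArg Subtype.val h2.eq
  obtain ⟨φ, hφ⟩ := Spec.map_surjective (P.isoSpec.inv ≫ r ≫ Q.isoSpec.hom)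
  have hφf : FibreDegLE (Spec.map φ) n := fibreDegLE_of_isPullback r Q.isoSpec.inv (Spec.map φ) P.isoSpec.inv
    (IsPullback.of_horiz_isIso ⟨by rw [hφ]; simp⟩) hr
  obtain ⟨ψ, hψ⟩ := Spec.map_surjective (Q.isoSpec.inv ≫ p)
  let _ := ψ.hom.toAlgebra
  rw [finiteOfDegLE_iff] at hQ ⊢
  have hQd := hQ.2
  rw [deg_eq p ψ Q.isoSpec (by rw [hψ, Iso.hom_inv_id_assoc])] at hQd
  have : IsFinite (Spec.map ψ) := by
    rw [hψ, MorphismProperty.cancel_left_of_respectsIso @IsFinite]; exact hQ.1
  have hB : Module.Finite k Γ(Q, ⊤) := (IsFinite.SpecMap_iff ψ).mp this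
  have : IsArtinianRing Γ(Q, ⊤) := isArtinian_of_tower k inferInstance
  obtain ⟨a', ha'⟩ := exists_span_of_fibreDegLE φ hφf
  let _ := φ.hom.toAlgebra
  let _ := (ψ ≫ φ).hom.toAlgebra
  have : IsScalarTower k Γ(Q, ⊤) Γ(P, ⊤) := IsScalarTower.of_algebraMap_eq fun _ => rfl
  let l : (Fin n → Γ(Q, ⊤)) →ₗ[k] Γ(P, ⊤) := (Fintype.linearCombination Γ(Q, ⊤) a').restrictScalars k
  have hl : Function.Surjective l := by
    intro x
    obtain ⟨c, hc⟩ := (Submodule.mem_span_range_iff_exists_fun _).mp (ha'.ge (x := x) trivial)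
    exact ⟨c, by simpa [l, Fintype.linearCombination_apply] using hc⟩
  have hA : Module.Finite k Γ(P, ⊤) := Module.Finite.of_surjective l hl
  have hcomp : P.isoSpec.hom ≫ Spec.map (ψ ≫ φ) = r ≫ p := by
    rw [Spec.map_comp, hφ, hψ]; simp
  refine ⟨?_, ?_⟩
  · rw [← hcomp, MorphismProperty.cancel_left_of_respectsIso @IsFinite, IsFinite.SpecMap_iff]
    exact hA
  · rw [deg_eq (r ≫ p) (ψ ≫ φ) P.isoSpec hcomp]
    refine (l.finrank_le_finrank_of_surjective hl).trans ?_
    rw [Module.finrank_pi_fintype, Finset.sum_const, Finset.card_univ, Fintype.card_fin, smul_eq_mul]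
    exact Nat.mul_le_mul_left n hQd

end

end GrothLib.BddFibre
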