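import Groth.Agent.Lib.BddFibre.Comp
import Mathlib.AlgebraicGeometry.ZariskisMainTheorem
import Mathlib.RingTheory.ZariskisMainTheorem

/-!
Quasi-finite morphisms from quasi-compact schemes have universally bounded fibres.
-/

universe u

open CategoryTheory CategoryTheory.Limits AlgebraicGeometry TensorProduct

namespace GrothLib.BddFibre

open BddFib

noncomputable section

set_option backward.isDefEq.respectTransparency.types false

theorem fibreDegLE_SpecMap_of_span {B A : CommRingCat.{u}} (φ : B ⟶ A) {N : ℕ}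
    (h : letI := φ.hom.toAlgebra; ∃ a : Fin N → A, Submodule.span B (Set.range a) = ⊤) :
    FibreDegLE (Spec.map φ) N := by
  let := φ.hom.toAlgebra
  obtain ⟨a, ha⟩ := h
  rw [fibreDegLE_iff]
  intro k _ g
  obtain ⟨σ, rfl⟩ := Spec.map_surjective g
  let := σ.hom.toAlgebra
  have hpo := (CommRingCat.isPushout_tensorProduct B k A).flip
  have hpb := isPullback_SpecMap_of_isPushout _ _ _ _ hpo
  let ψ : CommRingCat.of k ⟶ CommRingCat.of (k ⊗[B] A) :=
    CommRingCat.ofHom Algebra.TensorProduct.includeLeftRingHom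
  refine (finiteOfDegLE_of_iso _ hpb.isoPullback hpb.isoPullback_hom_snd).mp ?_
  show FiniteOfDegLE (CommRingCat.of k) (Spec.map ψ) N
  have halg : ψ.hom.toAlgebra = (Algebra.TensorProduct.leftAlgebra : Algebra k (k ⊗[B] A)) :=
    Algebra.algebra_ext _ _ fun _ => rfl
  let l : (Fin N → k) →ₗ[k] k ⊗[B] A := Fintype.linearCombination k fun i => 1 ⊗ₜ a i
  have hl : Function.Surjective l := by
    rw [← LinearMap.range_eq_top, Fintype.range_linearCombination, eq_top_iff]
    rintro x -
    induction x using TensorProduct.induction_on with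
    | zero => exact zero_mem _
    | add x y hx hy => exact add_mem hx hy
    | tmul c y =>
      obtain ⟨b, hb⟩ := (Submodule.mem_span_range_iff_exists_fun _).mp (ha.ge (x := y) trivial)
      rw [← hb, TensorProduct.tmul_sum]
      refine sum_mem fun i _ => ?_
      have e : c ⊗ₜ[B] (b i • a i) = (b i • c) • ((1 : k) ⊗ₜ[B] a i) := by
        rw [TensorProduct.tmul_smul, TensorProduct.smul_tmul', TensorProduct.smul_tmul', smul_eq_mul,
          mul_one]
      rw [e]
      exact Submodule.smul_mem _ _ (Submodule.subset_span ⟨i, rfl⟩)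
  have hfin : Module.Finite k (k ⊗[B] A) := Module.Finite.of_surjective l hl
  rw [finiteOfDegLE_iff, IsFinite.SpecMap_iff, deg_eq (Spec.map ψ) ψ (Iso.refl _) (Category.id_comp _)]
  refine ⟨by rw [RingHom.Finite, halg]; exact hfin, ?_⟩
  have hd : Module.finrank k (k ⊗[B] A) ≤ N :=
    (l.finrank_le_finrank_of_surjective hl).trans (Module.finrank_fin_fun k).le
  rw [halg]
  exact hd

theorem fibreDegLE_of_cover {X Y : Scheme.{u}} (f : X ⟶ Y) {io : Type} [Fintype io]
    (W : io → Scheme.{u}) (j : ∀ i, W i ⟶ X) [∀ i, IsOpenImmersion (j i)]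
    (hcov : ∀ x, ∃ i, x ∈ Set.range (j i)) (n : io → ℕ) (h : ∀ i, FibreDegLE (j i ≫ f) (n i)) :
    FibreDegLE f (∑ i, n i) := by
  rw [fibreDegLE_iff]
  intro k _ a
  let P := pullback f a
  let p : P ⟶ Spec (CommRingCat.of k) := pullback.snd f a
  let P' := fun i => pullback (j i) (pullback.fst f a)
  let q : ∀ i, P' i ⟶ P := fun i => pullback.snd _ _
  have hcov' : ∀ y : P, ∃ i z, q i z = y := fun y => by
    obtain ⟨i, w, hw⟩ := hcov (pullback.fst f a y)
    obtain ⟨z, -, hz⟩ := Scheme.Pullback.exists_preimage_pullback (f := j i) (g := pullback.fst f a) w y hw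
    exact ⟨i, z, hz⟩
  have hdeg : ∀ i, FiniteOfDegLE (CommRingCat.of k) (q i ≫ p) (n i) := fun i =>
    (finiteOfDegLE_of_iso (q i ≫ p) (pullbackRightPullbackFstIso f a (j i)).symm
      (by simp only [q, p, Iso.symm_hom, Iso.inv_comp_eq, pullbackRightPullbackFstIso_hom_snd])).mp
      ((fibreDegLE_iff _ _).mp (h i) k a)
  have hdisc : ∀ i, Finite (P' i) ∧ DiscreteTopology (P' i) := fun i =>
    finite_discrete_of_finiteOfDegLE _ (Field.toIsField k) (hdeg i)
  have hq : ∀ i, IsOpenImmersion (q i) := fun i => inferInstance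
  have : Finite P := by
    have hu : (Set.univ : Set P).Finite :=
      (Set.finite_iUnion fun i => @Set.finite_range P (P' i) (q i) (hdisc i).1).subset fun y _ => by
        obtain ⟨i, z, hz⟩ := hcov' y
        exact Set.mem_iUnion.mpr ⟨i, z, hz⟩
    exact Set.finite_univ_iff.mp hu
  have : DiscreteTopology P := discreteTopology_iff_isOpen_singleton.mpr fun y => by
    obtain ⟨i, z, rfl⟩ := hcov' y
    have := (hdisc i).2
    have h1 := (q i).isOpenEmbedding.isOpenMap _ (isOpen_discrete ({z} : Set (P' i)))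
    rwa [Set.image_singleton] at h1
  let : Algebra k Γ(P, ⊤) := secAlgebra (CommRingCat.of k) p
  let alg : ∀ i, Algebra k Γ(P' i, ⊤) := fun i => secAlgebra (CommRingCat.of k) (q i ≫ p)
  have hfin : ∀ i, Module.Finite k Γ(P' i, ⊤) := fun i => (hdeg i).2.1
  have hle : ∀ i, Module.finrank k Γ(P' i, ⊤) ≤ n i := fun i => (hdeg i).2.2
  let π : ∀ i, Γ(P, ⊤) →ₐ[k] Γ(P' i, ⊤) := fun i =>
    have hcomm : ((Scheme.ΓSpecIso (CommRingCat.of k)).inv ≫ p.appTop) ≫ (q i).appTop =
        (Scheme.ΓSpecIso (CommRingCat.of k)).inv ≫ (q i ≫ p).appTop := by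
      rw [Scheme.Hom.comp_appTop, Category.assoc]
    { (q i).appTop.hom with commutes' := fun x => congr($(hcomm).hom x) }
  let L : Γ(P, ⊤) →ₗ[k] (∀ i, Γ(P' i, ⊤)) := LinearMap.pi fun i => (π i).toLinearMap
  have hL : Function.Injective L := by
    intro s t hst
    refine TopCat.Presheaf.section_ext P.sheaf ⊤ s t fun y _ => ?_
    obtain ⟨i, z, rfl⟩ := hcov' y
    apply (ConcreteCategory.bijective_of_isIso ((q i).stalkMap z)).injective
    refine (Scheme.Hom.germ_stalkMap_apply (q i) ⊤ z trivial s).trans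
      (Eq.trans ?_ (Scheme.Hom.germ_stalkMap_apply (q i) ⊤ z trivial t).symm)
    exact congrArg _ (congrFun hst i)
  refine ⟨inferInstance, Module.Finite.of_injective L hL, ?_⟩
  refine (LinearMap.finrank_le_finrank_of_injective hL).trans ?_
  rw [Module.finrank_pi_fintype]
  exact Finset.sum_le_sum fun i _ => hle i

theorem exists_bounded_nhd {X Y : Scheme.{u}} (f : X ⟶ Y) [LocallyQuasiFinite f]
    [LocallyOfFiniteType f] (x : X) :
    ∃ (W : Scheme.{u}) (j : W ⟶ X) (n : ℕ),
      IsOpenImmersion j ∧ x ∈ Set.range j ∧ FibreDegLE (j ≫ f) n := by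
  obtain ⟨_, ⟨V, hV, rfl⟩, hxV, -⟩ :=
    Y.isBasis_affineOpens.exists_subset_of_mem_open (Set.mem_univ (f x)) isOpen_univ
  obtain ⟨_, ⟨W, hW, rfl⟩, hxW, hWV : W ≤ f ⁻¹ᵁ V⟩ :=
    X.isBasis_affineOpens.exists_subset_of_mem_open hxV (f ⁻¹ᵁ V).2
  let B := Γ(Y, V)
  let A := Γ(X, W)
  let φ : B ⟶ A := f.appLE V W hWV
  let := φ.hom.toAlgebra
  have : Algebra.FiniteType B A := f.finiteType_appLE hV hW hWV
  have : Algebra.QuasiFinite B A := LocallyQuasiFinite.quasiFinite_appLE hV hW hWV
  let p := (hW.primeIdealOf ⟨x, hxW⟩).asIdeal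
  obtain ⟨S', hfg, r, hr, hbij⟩ :=
    Algebra.QuasiFiniteAt.exists_fg_and_exists_notMem_and_awayMap_bijective (R := B) p
  let C := CommRingCat.of (Localization.Away r)
  let D := CommRingCat.of (Localization.Away (S'.val.toRingHom r))
  let lA : A ⟶ D := CommRingCat.ofHom (algebraMap A (Localization.Away (S'.val.toRingHom r)))
  let lS : CommRingCat.of S' ⟶ C := CommRingCat.ofHom (algebraMap S' (Localization.Away r))
  let inc : B ⟶ CommRingCat.of S' := CommRingCat.ofHom (algebraMap B S')
  let sub : CommRingCat.of S' ⟶ A := CommRingCat.ofHom S'.val.toRingHom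
  let aw : C ⟶ D := CommRingCat.ofHom (Localization.awayMap S'.val.toRingHom r)
  have : IsIso aw := (ConcreteCategory.isIso_iff_bijective aw).mpr hbij
  have e1 : lS ≫ aw = sub ≫ lA := by
    ext z
    show Localization.awayMap S'.val.toRingHom r (algebraMap S' (Localization.Away r) z) = _
    simp only [Localization.awayMap, IsLocalization.Away.map, IsLocalization.map_eq]
    rfl
  have e2 : inc ≫ sub = φ := by
    ext z
    rfl
  have : IsOpenImmersion (Spec.map lA) :=
    IsOpenImmersion.of_isLocalization (S := Localization.Away (S'.val.toRingHom r)) (S'.val.toRingHom r)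
  have : IsOpenImmersion (Spec.map lS) := IsOpenImmersion.of_isLocalization (S := Localization.Away r) r
  let j : Spec D ⟶ X := Spec.map lA ≫ hW.fromSpec
  obtain ⟨N, a, ha⟩ := Submodule.fg_iff_exists_fin_generating_family.mp hfg
  have hS : FibreDegLE (Spec.map inc) N := by
    refine fibreDegLE_SpecMap_of_span inc ?_
    have hmem : ∀ i, a i ∈ S' := fun i => ha.le (Submodule.subset_span ⟨i, rfl⟩)
    refine ⟨fun i => ⟨a i, hmem i⟩, ?_⟩
    have halg : inc.hom.toAlgebra = (inferInstance : Algebra B S') := Algebra.algebra_ext _ _ fun _ => rfl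
    rw [halg]
    apply Submodule.map_injective_of_injective (f := S'.val.toLinearMap) Subtype.val_injective
    rw [Submodule.map_span, ← Set.range_comp, Submodule.map_top]
    refine ha.trans ?_
    ext z
    exact ⟨fun hz => ⟨⟨z, hz⟩, rfl⟩, fun ⟨w, hw⟩ => hw ▸ w.2⟩
  refine ⟨Spec D, j, 1 * 1 * N * 1, inferInstance, ?_, ?_⟩
  · have hp : hW.primeIdealOf ⟨x, hxW⟩ ∈ Set.range (Spec.map lA) := by
      have h1 := PrimeSpectrum.localization_away_comap_range
        (Localization.Away (S'.val.toRingHom r)) (S'.val.toRingHom r)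
      exact h1.ge hr
    obtain ⟨z, hz⟩ := hp
    refine ⟨z, ?_⟩
    rw [Scheme.Hom.comp_apply, hz, hW.fromSpec_primeIdealOf]
  · have e : j ≫ f = ((Spec.map aw ≫ Spec.map lS) ≫ Spec.map inc) ≫ hV.fromSpec := by
      rw [Category.assoc, ← IsAffineOpen.SpecMap_appLE_fromSpec f hV hW hWV]
      simp only [← Spec.map_comp, ← Spec.map_comp_assoc]
      rw [e1, ← Category.assoc inc, e2]
    rw [e]
    exact fibreDegLE_comp _ _ (fibreDegLE_comp _ _ (fibreDegLE_comp _ _
      (fibreDegLE_of_isImmersion _) (fibreDegLE_of_isImmersion _)) hS) (fibreDegLE_of_isImmersion _)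

theorem univBounded_of_locallyQuasiFinite {X Y : Scheme.{u}} (f : X ⟶ Y) [LocallyQuasiFinite f]
    [LocallyOfFiniteType f] [CompactSpace X] : UnivBounded f := by
  choose W j n hj hx hn using exists_bounded_nhd f
  obtain ⟨s, hs⟩ := isCompact_univ.elim_finite_subcover (fun x => Set.range (j x))
    (fun x => (j x).isOpenEmbedding.isOpen_range) (fun x _ => Set.mem_iUnion.mpr ⟨x, hx x⟩)
  let e := s.equivFin.symm
  exact ⟨_, fibreDegLE_of_cover f (io := Fin s.card) (fun i => W (e i)) (fun i => j (e i)) (fun x => by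
    obtain ⟨y, hy, hxy⟩ := Set.mem_iUnion₂.mp (hs (Set.mem_univ x))
    exact ⟨s.equivFin ⟨y, hy⟩, by simp only [e]; rw [Equiv.symm_apply_apply]; exact hxy⟩) (fun i => n (e i)) (fun i => hn (e i))⟩

end

end GrothLib.BddFibre
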