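import Groth.Prelude.Def_W4stkschemesremainderFib
import Groth.Agent.Lib.EtSite.FpqcDescent
import Groth.Agent.Lib.DiagGrp.TrivOver
import Mathlib.AlgebraicGeometry.Morphisms.FlatRank
import Mathlib.AlgebraicGeometry.Morphisms.Immersion
import Mathlib.LinearAlgebra.Dimension.Constructions

/-!
Schemes finite of bounded degree over a field.
-/

universe u

open CategoryTheory CategoryTheory.Limits AlgebraicGeometry TensorProduct

namespace GrothLib.BddFibre

open BddFib

noncomputable section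

set_option backward.isDefEq.respectTransparency.types false

/-- The degree of a scheme over `Spec K`. -/
def deg (K : CommRingCat.{u}) {T : Scheme.{u}} (p : T ⟶ Spec K) : ℕ :=
  letI : Algebra K Γ(T, ⊤) := secAlgebra K p
  Module.finrank K Γ(T, ⊤)

variable {K : CommRingCat.{u}} {T T' : Scheme.{u}} (p : T ⟶ Spec K)

theorem finiteOfDegLE_iff (n : ℕ) : FiniteOfDegLE K p n ↔ IsFinite p ∧ deg K p ≤ n := by
  letI : Algebra K Γ(T, ⊤) := secAlgebra K p
  constructor
  · rintro ⟨hT, hf, hn⟩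
    refine ⟨(HasAffineProperty.iff_of_isAffine (P := @IsFinite) (f := p)).mpr ⟨hT, ?_⟩, hn⟩
    have h : ((Scheme.ΓSpecIso K).inv ≫ p.appTop).hom.Finite := hf
    have e : p.appTop = (Scheme.ΓSpecIso K).hom ≫ (Scheme.ΓSpecIso K).inv ≫ p.appTop := by simp
    rw [e, CommRingCat.hom_comp]
    exact h.comp (.of_surjective _ (ConcreteCategory.bijective_of_isIso _).surjective)
  · rintro ⟨hf, hn⟩
    have h := (HasAffineProperty.iff_of_isAffine (P := @IsFinite) (f := p)).mp hf
    refine ⟨h.1, ?_, hn⟩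
    show ((Scheme.ΓSpecIso K).inv ≫ p.appTop).hom.Finite
    rw [CommRingCat.hom_comp]
    exact h.2.comp (.of_surjective _ (ConcreteCategory.bijective_of_isIso _).surjective)

theorem deg_eq {A : CommRingCat.{u}} (φ : K ⟶ A) (e : T ≅ Spec A) (h : e.hom ≫ Spec.map φ = p) :
    letI := φ.hom.toAlgebra
    deg K p = Module.finrank K A := by
  letI : Algebra K Γ(T, ⊤) := secAlgebra K p
  letI := φ.hom.toAlgebra
  let E : A ⟶ Γ(T, ⊤) := (Scheme.ΓSpecIso A).inv ≫ e.hom.appTop
  have hE : φ ≫ E = (Scheme.ΓSpecIso K).inv ≫ p.appTop := by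
    simp only [E, ← h, Scheme.Hom.comp_appTop, ← Category.assoc]
    congr 1
    exact Scheme.ΓSpecIso_inv_naturality φ
  have : IsIso e.hom.appTop := inferInstanceAs (IsIso (e.hom.app ⊤))
  have : IsIso E := by dsimp only [E]; infer_instance
  let E' : A →ₐ[K] Γ(T, ⊤) := { E.hom with commutes' := fun r => congr($(hE).hom r) }
  exact ((LinearEquiv.ofBijective E'.toLinearMap
    (ConcreteCategory.bijective_of_isIso E)).finrank_eq).symm

theorem deg_comp_iso (e : T' ≅ T) [IsAffine T] : deg K (e.hom ≫ p) = deg K p := by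
  obtain ⟨φ, hφ⟩ := Spec.map_surjective (T.isoSpec.inv ≫ p)
  rw [deg_eq p φ T.isoSpec (by rw [hφ, Iso.hom_inv_id_assoc]),
    deg_eq (e.hom ≫ p) φ (e ≪≫ T.isoSpec) (by rw [Iso.trans_hom, Category.assoc, hφ, Iso.hom_inv_id_assoc])]

theorem finiteOfDegLE_comp_iso (e : T' ≅ T) (n : ℕ) :
    FiniteOfDegLE K (e.hom ≫ p) n ↔ FiniteOfDegLE K p n := by
  rw [finiteOfDegLE_iff, finiteOfDegLE_iff, MorphismProperty.cancel_left_of_respectsIso @IsFinite]
  refine and_congr_right fun h => ?_
  have : IsAffine T := isAffine_of_isAffineHom p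
  rw [deg_comp_iso]

theorem finiteOfDegLE_of_iso {p' : T' ⟶ Spec K} (e : T' ≅ T) (h : e.hom ≫ p = p') {n : ℕ} :
    FiniteOfDegLE K p' n ↔ FiniteOfDegLE K p n := h ▸ finiteOfDegLE_comp_iso p e n

section baseChange

variable {K L : CommRingCat.{u}} {T : Scheme.{u}}

theorem deg_pullback (hK : IsField K) (hL : IsField L) (σ : K ⟶ L) (p : T ⟶ Spec K) [IsAffine T] :
    deg L (pullback.snd p (Spec.map σ)) = deg K p := by
  let := hK.toField
  let := hL.toField
  obtain ⟨φ, hφ⟩ := Spec.map_surjective (T.isoSpec.inv ≫ p)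
  let := φ.hom.toAlgebra
  let := σ.hom.toAlgebra
  rw [deg_eq p φ T.isoSpec (by rw [hφ, Iso.hom_inv_id_assoc])]
  let A := T.presheaf.obj (Opposite.op ⊤)
  have hpo := (CommRingCat.isPushout_tensorProduct K L A).flip
  have hpb : IsPullback _ _ (Spec.map φ) (Spec.map σ) := isPullback_SpecMap_of_isPushout _ _ _ _ hpo
  let e : pullback p (Spec.map σ) ≅ Spec (CommRingCat.of (L ⊗[K] A)) :=
    asIso (pullback.map p (Spec.map σ) (Spec.map φ) (Spec.map σ) T.isoSpec.hom (𝟙 _) (𝟙 _)
      (by rw [hφ, Iso.hom_inv_id_assoc, Category.comp_id]) (by simp)) ≪≫ hpb.isoPullback.symm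
  rw [deg_eq _ _ e (by
    simp only [e, Iso.trans_hom, asIso_hom, Iso.symm_hom, Category.assoc]
    rw [IsPullback.isoPullback_inv_snd, pullback.lift_snd, Category.comp_id])]
  have key : ∀ (i : Algebra L (L ⊗[K] A)), (∀ r, i.algebraMap r = r ⊗ₜ[K] (1 : A)) →
      @Module.finrank L (L ⊗[K] A) _ _ i.toModule = Module.finrank K A := fun i hi => by
    obtain rfl : i = Algebra.TensorProduct.leftAlgebra := Algebra.algebra_ext _ _ hi
    exact Module.finrank_baseChange
  exact key (Algebra.TensorProduct.includeLeftRingHom (R := (K : Type u)) (A := (L : Type u)) (B := A)).toAlgebra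
    fun _ => rfl

theorem finiteOfDegLE_pullback_iff (hK : IsField K) (hL : IsField L) (σ : K ⟶ L) (p : T ⟶ Spec K)
    (n : ℕ) : FiniteOfDegLE L (pullback.snd p (Spec.map σ)) n ↔ FiniteOfDegLE K p n := by
  rw [finiteOfDegLE_iff, finiteOfDegLE_iff]
  let := hK.toField
  let := hL.toField
  constructor
  · rintro ⟨h₁, h₂⟩
    have hσ : GrothLib.EtSite.fpqcCov (Spec.map σ) :=
      ⟨⟨⟨fun x => ⟨IsLocalRing.closedPoint (L : Type u), Subsingleton.elim (α := PrimeSpectrum K) _ _⟩⟩,
        GrothLib.DiagGrp.flat_of_field (L := (K : Type u)) _⟩, inferInstance⟩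
    have hp : IsFinite p := MorphismProperty.of_pullback_snd_of_descendsAlong
      (P := @IsFinite) (Q := GrothLib.EtSite.fpqcCov) hσ h₁
    have : IsAffine T := isAffine_of_isAffineHom p
    exact ⟨hp, deg_pullback hK hL σ p ▸ h₂⟩
  · rintro ⟨h₁, h₂⟩
    have : IsAffine T := isAffine_of_isAffineHom p
    exact ⟨MorphismProperty.pullback_snd _ _ h₁, (deg_pullback hK hL σ p).symm ▸ h₂⟩

end baseChange

variable {X Y : Scheme.{u}} {f : X ⟶ Y}

/-- Changing the field point. -/
theorem finiteOfDegLE_snd_comp_iff {K L : CommRingCat.{u}} (hK : IsField K) (hL : IsField L)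
    (σ : K ⟶ L) (f : X ⟶ Y) (g : Spec K ⟶ Y) (n : ℕ) :
    FiniteOfDegLE L (pullback.snd f (Spec.map σ ≫ g)) n ↔ FiniteOfDegLE K (pullback.snd f g) n := by
  rw [← finiteOfDegLE_pullback_iff hK hL σ]
  exact finiteOfDegLE_of_iso _ (pullbackLeftPullbackSndIso f g (Spec.map σ)).symm
    (by rw [Iso.symm_hom, Iso.inv_comp_eq]; simp)

theorem finiteOfDegLE_point_iff {L : Type u} [Field L] (f : X ⟶ Y) (g : Spec (CommRingCat.of L) ⟶ Y)
    (n : ℕ) : FiniteOfDegLE (CommRingCat.of L) (pullback.snd f g) n ↔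
      FiniteOfDegLE (Y.residueField (g (IsLocalRing.closedPoint L)))
        (f.fiberToSpecResidueField (g (IsLocalRing.closedPoint L))) n := by
  obtain ⟨σ, hσ⟩ : ∃ σ : Y.residueField (g (IsLocalRing.closedPoint L)) ⟶ CommRingCat.of L,
      Spec.map σ ≫ Y.fromSpecResidueField _ = g :=
    ⟨_, Scheme.descResidueField_stalkClosedPointTo_fromSpecResidueField L Y g⟩
  conv_lhs => rw [← hσ]
  exact finiteOfDegLE_snd_comp_iff (Field.toIsField (Y.residueField _)) (Field.toIsField L) σ f _ n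

theorem fibreDegLE_iff (f : X ⟶ Y) (n : ℕ) :
    FibreDegLE f n ↔ ∀ (k : Type u) [Field k] (g : Spec (CommRingCat.of k) ⟶ Y),
      FiniteOfDegLE (CommRingCat.of k) (pullback.snd f g) n :=
  ⟨fun h k _ g => (finiteOfDegLE_point_iff f g n).mpr (h _),
    fun h y => h (Y.residueField y) (Y.fromSpecResidueField y)⟩

theorem fibreDegLE_of_isPullback {X' Y' : Scheme.{u}} (f : X ⟶ Y) (g : Y' ⟶ Y) (f' : X' ⟶ Y')
    (g' : X' ⟶ X) (h : IsPullback g' f' f g) {n : ℕ} (hf : FibreDegLE f n) : FibreDegLE f' n := by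
  rw [fibreDegLE_iff] at hf ⊢
  intro k _ a
  have hpb := (IsPullback.of_hasPullback f' a).paste_horiz h
  exact (finiteOfDegLE_of_iso _ hpb.isoPullback hpb.isoPullback_hom_snd).mpr (hf k (a ≫ g))

theorem fibreDegLE_of_isPullback_of_surjective {X' Y' : Scheme.{u}} (f : X ⟶ Y) (g : Y' ⟶ Y)
    [Surjective g] (f' : X' ⟶ Y') (g' : X' ⟶ X) (h : IsPullback g' f' f g) {n : ℕ}
    (hf' : FibreDegLE f' n) : FibreDegLE f n := by
  intro y
  obtain ⟨y', rfl⟩ := g.surjective y
  have hpb := (IsPullback.of_hasPullback f' (Y'.fromSpecResidueField y')).paste_horiz h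
  have h1 := (finiteOfDegLE_of_iso _ hpb.isoPullback hpb.isoPullback_hom_snd).mp (hf' y')
  rw [← g.SpecMap_residueFieldMap_fromSpecResidueField] at h1
  exact (finiteOfDegLE_snd_comp_iff (Field.toIsField _) (Field.toIsField _) (g.residueFieldMap y') f _ n).mp h1

theorem fibreDegLE_of_isImmersion (f : X ⟶ Y) [IsImmersion f] : FibreDegLE f 1 := by
  intro y
  let K := Y.residueField y
  let q : f.fiber y ⟶ Spec K := f.fiberToSpecResidueField y
  have : IsImmersion q := MorphismProperty.pullback_snd f (Y.fromSpecResidueField y) ‹_›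
  have : IsClosedImmersion q := .of_isPreimmersion q (by
    have : Subsingleton ↥(Spec K) := inferInstanceAs (Subsingleton (PrimeSpectrum K))
    exact Set.subsingleton_of_subsingleton.isClosed)
  rw [finiteOfDegLE_iff]
  refine ⟨inferInstance, ?_⟩
  have : IsAffine (f.fiber y) := isAffine_of_isAffineHom q
  letI : Algebra K Γ(f.fiber y, ⊤) := secAlgebra K q
  have hs : Function.Surjective (algebraMap K Γ(f.fiber y, ⊤)) := by
    show Function.Surjective ((Scheme.ΓSpecIso K).inv ≫ q.appTop).hom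
    rw [CommRingCat.hom_comp, RingHom.coe_comp]
    exact (Scheme.Hom.app_surjective q ⊤ (isAffineOpen_top _)).comp
      (ConcreteCategory.bijective_of_isIso _).surjective
  exact ((Algebra.linearMap K _).finrank_le_finrank_of_surjective hs).trans (Module.finrank_self K).le

end

end GrothLib.BddFibre
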