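import Groth.Agent.Lib.BddFibre.Basic
import Mathlib.AlgebraicGeometry.Artinian
import Mathlib.RingTheory.Ideal.Quotient.Operations

/-!
Points of schemes finite of bounded degree over a field.
-/

universe u

open CategoryTheory CategoryTheory.Limits AlgebraicGeometry

namespace GrothLib.BddFibre

open BddFib

noncomputable section

set_option backward.isDefEq.respectTransparency.types false

variable {K : CommRingCat.{u}} {T : Scheme.{u}} (p : T ⟶ Spec K)

theorem finite_discrete_of_finiteOfDegLE (hK : IsField K) {n : ℕ} (h : FiniteOfDegLE K p n) :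
    Finite T ∧ DiscreteTopology T := by
  let := hK.toField
  let : Algebra K Γ(T, ⊤) := secAlgebra K p
  obtain ⟨hT, hf, -⟩ := h
  have : IsArtinianRing Γ(T, ⊤) := isArtinian_of_tower (K : Type u) inferInstance
  have hf' : Finite ↥(Spec Γ(T, ⊤)) := inferInstanceAs (Finite (PrimeSpectrum Γ(T, ⊤)))
  have : DiscreteTopology ↥(Spec Γ(T, ⊤)) := inferInstanceAs (DiscreteTopology (PrimeSpectrum Γ(T, ⊤)))
  exact ⟨Finite.of_injective _ T.isoSpec.hom.homeomorph.injective,
    T.isoSpec.hom.homeomorph.symm.discreteTopology⟩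

theorem Γevaluation_surjective [IsAffine T] [DiscreteTopology T] (x : T) :
    Function.Surjective (T.Γevaluation x) := by
  have := isClosed_singleton_iff_isClosedImmersion.mp (isClosed_discrete ({x} : Set T))
  have h := Scheme.Hom.app_surjective (T.fromSpecResidueField x) ⊤ (isAffineOpen_top T)
  have e : T.Γevaluation x = (T.fromSpecResidueField x).appTop ≫
      (Scheme.ΓSpecIso (T.residueField x)).hom := by
    simp only [Scheme.fromSpecResidueField, Scheme.Hom.comp_appTop, Category.assoc,
      Scheme.fromSpecStalk_appTop, Scheme.ΓSpecIso_naturality]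
    simp [Scheme.Γevaluation, Scheme.evaluation]
  rw [e]
  intro z
  obtain ⟨w, rfl⟩ := (ConcreteCategory.bijective_of_isIso (Scheme.ΓSpecIso (T.residueField x)).hom).surjective z
  obtain ⟨v, rfl⟩ := h w
  exact ⟨v, rfl⟩

theorem ker_Γevaluation_injective [IsAffine T] [DiscreteTopology T] :
    Function.Injective fun x : T => RingHom.ker (T.Γevaluation x).hom := by
  intro x y h
  by_contra hne
  obtain ⟨f, hf, hx⟩ := (isAffineOpen_top T).exists_basicOpen_le (V := ⟨{x}, isOpen_discrete _⟩)
    ⟨x, rfl⟩ trivial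
  have hy : y ∉ T.basicOpen f := fun hy => hne (hf hy).symm
  exact (T.evaluation_ne_zero_iff_mem_basicOpen (U := ⊤) x (TopologicalSpace.Opens.mem_top x) f).mpr hx
    (h.symm.le ((T.evaluation_eq_zero_iff_notMem_basicOpen (U := ⊤) y (TopologicalSpace.Opens.mem_top y) f).mpr hy))

theorem bijective_residue_point (hK : IsField K) (y : ↥(Spec K)) :
    Function.Bijective ((Scheme.ΓSpecIso K).inv ≫ (Spec K).Γevaluation y) := by
  let := hK.toField
  have : DiscreteTopology ↥(Spec K) := inferInstanceAs (DiscreteTopology (PrimeSpectrum K))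
  refine ⟨RingHom.injective ((Scheme.ΓSpecIso K).inv ≫ (Spec K).Γevaluation y).hom, ?_⟩
  intro z
  obtain ⟨w, rfl⟩ := Γevaluation_surjective y z
  obtain ⟨v, rfl⟩ := (ConcreteCategory.bijective_of_isIso (Scheme.ΓSpecIso K).inv).surjective w
  exact ⟨v, rfl⟩

theorem residueDegree_eq (hK : IsField K) (x : T) :
    letI := ((Scheme.ΓSpecIso K).inv ≫ p.appTop ≫ T.Γevaluation x).hom.toAlgebra
    p.residueDegree x = Module.finrank K (T.residueField x) := by
  let := ((Scheme.ΓSpecIso K).inv ≫ p.appTop ≫ T.Γevaluation x).hom.toAlgebra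
  let := (p.residueFieldMap x).hom.toAlgebra
  have e : (Scheme.ΓSpecIso K).inv ≫ p.appTop ≫ T.Γevaluation x =
      ((Scheme.ΓSpecIso K).inv ≫ (Spec K).Γevaluation (p x)) ≫ p.residueFieldMap x := by
    rw [Category.assoc, Scheme.Γevaluation_naturality]
  exact (Algebra.finrank_eq_of_equiv_equiv (RingEquiv.ofBijective _ (bijective_residue_point hK (p x)))
    (RingEquiv.refl _) (congrArg CommRingCat.Hom.hom e.symm)).symm

theorem residueDegree_pos (hK : IsField K) {n : ℕ} (h : FiniteOfDegLE K p n) (x : T) :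
    0 < p.residueDegree x := by
  let := hK.toField
  obtain ⟨_, _⟩ := finite_discrete_of_finiteOfDegLE p hK h
  let : Algebra K Γ(T, ⊤) := secAlgebra K p
  obtain ⟨hT, hf, -⟩ := h
  rw [residueDegree_eq p hK x]
  let := ((Scheme.ΓSpecIso K).inv ≫ p.appTop ≫ T.Γevaluation x).hom.toAlgebra
  let π : Γ(T, ⊤) →ₐ[K] T.residueField x :=
    { (T.Γevaluation x).hom with commutes' := fun _ => rfl }
  have : Module.Finite K (T.residueField x) :=
    Module.Finite.of_surjective π.toLinearMap (Γevaluation_surjective x)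
  exact Module.finrank_pos

theorem sum_residueDegree_le (hK : IsField K) {n : ℕ} (h : FiniteOfDegLE K p n) :
    ∑ᶠ x : T, p.residueDegree x ≤ n := by
  let := hK.toField
  obtain ⟨_, _⟩ := finite_discrete_of_finiteOfDegLE p hK h
  let := Fintype.ofFinite T
  let : Algebra K Γ(T, ⊤) := secAlgebra K p
  obtain ⟨hT, hf, hn⟩ := h
  rw [finsum_eq_sum_of_fintype]
  let alg : ∀ x, Algebra K (T.residueField x) := fun x =>
    ((Scheme.ΓSpecIso K).inv ≫ p.appTop ≫ T.Γevaluation x).hom.toAlgebra
  let π : ∀ x, Γ(T, ⊤) →ₐ[K] T.residueField x := fun x =>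
    { (T.Γevaluation x).hom with commutes' := fun _ => rfl }
  let P := AlgHom.pi π
  have hmax : ∀ x, (RingHom.ker (T.Γevaluation x).hom).IsMaximal := fun x =>
    RingHom.ker_isMaximal_of_surjective _ (Γevaluation_surjective x)
  have hP : Function.Surjective P.toLinearMap := by
    intro v
    choose a ha using fun x => Γevaluation_surjective x (v x)
    have hco : Pairwise (Function.onFun IsCoprime fun x : T => RingHom.ker (T.Γevaluation x).hom) :=
      fun x y hxy => Ideal.isCoprime_iff_sup_eq.mpr
        ((hmax x).coprime_of_ne (hmax y) (ker_Γevaluation_injective.ne hxy))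
    obtain ⟨b, hb⟩ := Ideal.quotientInfToPiQuotient_surj hco (fun x => Ideal.Quotient.mk _ (a x))
    obtain ⟨b, rfl⟩ := Ideal.Quotient.mk_surjective b
    refine ⟨b, funext fun x => ?_⟩
    have h1 := congrFun hb x
    rw [Ideal.quotientInfToPiQuotient_mk', Ideal.Quotient.eq, RingHom.mem_ker, map_sub, sub_eq_zero] at h1
    exact h1.trans (ha x)
  have : ∀ x, Module.Finite K (T.residueField x) := fun x =>
    Module.Finite.of_surjective (π x).toLinearMap (Γevaluation_surjective x)
  calc ∑ x, p.residueDegree x = ∑ x, Module.finrank K (T.residueField x) :=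
        Finset.sum_congr rfl fun x _ => residueDegree_eq p hK x
    _ = Module.finrank K (∀ x, T.residueField x) := (Module.finrank_pi_fintype _).symm
    _ ≤ Module.finrank K Γ(T, ⊤) := P.toLinearMap.finrank_le_finrank_of_surjective hP
    _ ≤ n := hn

theorem natCard_le (hK : IsField K) {n : ℕ} (h : FiniteOfDegLE K p n) : Nat.card T ≤ n := by
  obtain ⟨_, _⟩ := finite_discrete_of_finiteOfDegLE p hK h
  let := Fintype.ofFinite T
  refine le_trans ?_ (sum_residueDegree_le p hK h)
  rw [Nat.card_eq_fintype_card, finsum_eq_sum_of_fintype, Fintype.card_eq_sum_ones]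
  exact Finset.sum_le_sum fun x _ => residueDegree_pos p hK h x

end

end GrothLib.BddFibre
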